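import Cfsg.Agent.StabLength.Odd.Prim

/-!
The odd half for S4070: a soluble completely reducible group of odd order on a module of odd
characteristic has a vector with abelian stabiliser.
-/

set_option autoImplicit false
set_option linter.style.haveILetI false
set_option linter.unusedSectionVars false

universe u

namespace CfsgLib.StabLength.Odd

open OddBase
open scoped commutatorElement

variable {V : Type u} [AddCommGroup V] {A : Subgroup (Aut V)}

/-- An abelian stabiliser can be found away from zero. -/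
lemma ne_zero_of_exists [Nontrivial V]
    (h : ∃ v : V, ∀ a ∈ stabV A v, ∀ b ∈ stabV A v, a * b = b * a) :
    ∃ v : V, v ≠ 0 ∧ ∀ a ∈ stabV A v, ∀ b ∈ stabV A v, a * b = b * a := by
  obtain ⟨v, hv⟩ := h
  by_cases h0 : v = 0
  · obtain ⟨w, hw⟩ := exists_ne (0 : V)
    exact ⟨w, hw, fun a ha b hb => hv a ⟨ha.1, by rw [h0]; exact smul_zero a⟩
      b ⟨hb.1, by rw [h0]; exact smul_zero b⟩⟩
  · exact ⟨v, h0, hv⟩

/-- The sum of two invariant subgroups. -/
lemma exists_sum {U W : AddSubgroup V} (hU : Inv A U) (hW : Inv A W) (hd : U ⊓ W = ⊥)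
    (hs : U ⊔ W = ⊤)
    (h1 : ∃ u : U, ∀ a ∈ stabV (res A U hU).range u, ∀ b ∈ stabV (res A U hU).range u,
      a * b = b * a)
    (h2 : ∃ w : W, ∀ a ∈ stabV (res A W hW).range w, ∀ b ∈ stabV (res A W hW).range w,
      a * b = b * a) :
    ∃ v : V, ∀ a ∈ stabV A v, ∀ b ∈ stabV A v, a * b = b * a := by
  obtain ⟨u, hu⟩ := h1
  obtain ⟨w, hw⟩ := h2
  have split : ∀ a : A, (a : Aut V) • ((u : V) + w) = (u : V) + w →
      res A U hU a • u = u ∧ res A W hW a • w = w := by
    intro a he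
    rw [smul_add] at he
    have hm : (a : Aut V) • (u : V) - u ∈ U ⊓ W := by
      refine ⟨U.sub_mem (hU a a.2 u u.2) u.2, ?_⟩
      have hr : (a : Aut V) • (u : V) - u = (w : V) - (a : Aut V) • (w : V) := by
        rw [sub_eq_sub_iff_add_eq_add, he, add_comm]
      rw [hr]
      exact W.sub_mem w.2 (hW a a.2 w w.2)
    rw [hd, AddSubgroup.mem_bot, sub_eq_zero] at hm
    refine ⟨Subtype.ext hm, Subtype.ext ?_⟩
    rw [hm] at he
    exact add_left_cancel he
  refine ⟨(u : V) + w, fun a ha b hb => ?_⟩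
  obtain ⟨a1, a2⟩ := split ⟨a, ha.1⟩ ha.2
  obtain ⟨b1, b2⟩ := split ⟨b, hb.1⟩ hb.2
  have h := eq_one_of_res hU hW hs ⁅(⟨a, ha.1⟩ : A), ⟨b, hb.1⟩⁆
    (by rw [map_commutatorElement, commutatorElement_eq_one_iff_mul_comm]
        exact hu _ ⟨⟨_, rfl⟩, a1⟩ _ ⟨⟨_, rfl⟩, b1⟩)
    (by rw [map_commutatorElement, commutatorElement_eq_one_iff_mul_comm]
        exact hw _ ⟨⟨_, rfl⟩, a2⟩ _ ⟨⟨_, rfl⟩, b2⟩)
  exact congrArg Subtype.val (commutatorElement_eq_one_iff_mul_comm.mp h)

open scoped Classical in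
/-- A group with blocks. -/
lemma exists_blocks [Finite V] (hsol : Group.IsSolvable A) (hodd : Odd (Nat.card A))
    (Bk : Blocks A) {p : ℕ} (hp : p.Prime) (hp2 : p ≠ 2) (hpV : ∀ v : V, p • v = 0)
    (h : ∃ u : Bk.space, ∀ a ∈ stabV (res Bk.stab Bk.space Bk.inv_space).range u,
      ∀ b ∈ stabV (res Bk.stab Bk.space Bk.inv_space).range u, a * b = b * a) :
    ∃ v : V, ∀ a ∈ stabV A v, ∀ b ∈ stabV A v, a * b = b * a := by
  haveI : Nontrivial Bk.space := Finite.one_lt_card_iff_nontrivial.mp Bk.two_le_space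
  obtain ⟨u, hu0, hu⟩ := ne_zero_of_exists h
  have hTle : Bk.stab ≤ A := fun a ha => ha.1
  set R := (res Bk.stab Bk.space Bk.inv_space).range with hR
  have hRodd : Odd (Nat.card R) :=
    odd_range _ (hodd.of_dvd_nat (Subgroup.card_dvd_of_le hTle))
  obtain ⟨δ, hδ⟩ := col_of_linGood smallBound _ (fun m _ => linGood m) Bk.O rfl
    Bk.perm.range (solvable_range _ hsol) (odd_range _ hodd)
  let P : Bool → Bk.space := fun c => if c then u else -u
  have hfixu : ∀ r ∈ R, ∀ c, r • P c = P c → r • u = u := by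
    intro r _ c hc
    cases c <;> simp only [P, if_true, if_false, Bool.false_eq_true] at hc
    · rw [smul_neg] at hc
      exact neg_injective hc
    · exact hc
  have horb : ∀ c c', ∀ r ∈ R, r • P c = P c' → c = c' := by
    intro c c' r hr hc
    by_contra hne
    have hneg : r • u = -u := by
      cases c <;> cases c' <;>
        simp only [P, if_true, if_false, Bool.false_eq_true, not_true_eq_false] at hc hne
      · rw [smul_neg, neg_eq_iff_eq_neg] at hc
        exact hc
      · exact hc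
    have h2 : r • r • u = u := by rw [hneg, smul_neg, hneg, neg_neg]
    have h3 := smul_eq_of_sq (G := R) (X := Bk.space) hRodd (g := ⟨r, hr⟩) (x := u) h2
    change r • u = u at h3
    rw [hneg] at h3
    refine hu0 (Subtype.ext ?_)
    have h4 : -(u : V) = (u : V) := congrArg Subtype.val h3
    obtain ⟨k, hk⟩ := hp.odd_of_ne_two hp2
    have h5 := hpV (u : V)
    rw [hk, succ_nsmul, mul_nsmul, two_nsmul] at h5
    rw [show (u : V) + u = 0 by nth_rewrite 1 [← h4]; exact neg_add_cancel _, nsmul_zero,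
      zero_add] at h5
    exact h5
  refine ⟨∑ i : Bk.O, Bk.rep i • (P (δ i) : V), fun a ha b hb => ?_⟩
  set v := ∑ i : Bk.O, Bk.rep i • (P (δ i) : V)
  have hproj : ∀ j : Bk.O, (j : AddMonoid.End V) v = Bk.rep j • (P (δ j) : V) := by
    intro j
    rw [map_sum, Finset.sum_eq_single j
      (fun k _ hk => by rw [Bk.proj_rep j k (P (δ k)).2, if_neg (Ne.symm hk)])
      (fun h => absurd (Finset.mem_univ j) h), Bk.proj_rep j j (P (δ j)).2, if_pos rfl]
  have hmove : ∀ x : A, (x : Aut V) • v = v → Bk.perm x = 1 ∧ ∀ i,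
      ∃ hm : (Bk.rep i)⁻¹ * x * Bk.rep i ∈ Bk.stab,
        res Bk.stab Bk.space Bk.inv_space ⟨_, hm⟩ • u = u := by
    intro x hx
    have h0 : ∀ i, res Bk.stab Bk.space Bk.inv_space ⟨_, Bk.key_stab x i⟩ • P (δ i) =
        P (δ (Bk.perm x i)) := by
      intro i
      have h1 := cj_apply_smul (x : Aut V) (i : AddMonoid.End V) v
      rw [hx, show cj (x : Aut V) (i : AddMonoid.End V) = (Bk.perm x i : AddMonoid.End V) from rfl,
        hproj, hproj] at h1
      refine Subtype.ext ?_
      rw [res_smul]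
      show ((Bk.rep (Bk.perm x i))⁻¹ * (x : Aut V) * Bk.rep i) • (P (δ i) : V) = _
      rw [mul_smul, mul_smul, ← h1, inv_smul_smul]
    have hperm : Bk.perm x = 1 :=
      hδ _ ⟨x, rfl⟩ fun i => (horb _ _ _ ⟨_, rfl⟩ (h0 i)).symm
    refine ⟨hperm, fun i => ?_⟩
    have e : Bk.perm x i = i := by rw [hperm]; rfl
    have h1 := h0 i
    simp only [e] at h1
    have hm : (Bk.rep i)⁻¹ * x * Bk.rep i ∈ Bk.stab := by
      have := Bk.key_stab x i
      rwa [e] at this
    exact ⟨hm, hfixu _ ⟨_, rfl⟩ _ h1⟩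
  obtain ⟨hpa, hma⟩ := hmove ⟨a, ha.1⟩ ha.2
  obtain ⟨hpb, hmb⟩ := hmove ⟨b, hb.1⟩ hb.2
  have h1 := Bk.faith ⁅(⟨a, ha.1⟩ : A), ⟨b, hb.1⟩⁆
    (by rw [map_commutatorElement, hpa]; simp) fun i y hy => by
      obtain ⟨hm1, hf1⟩ := hma i
      obtain ⟨hm2, hf2⟩ := hmb i
      have hc : res Bk.stab Bk.space Bk.inv_space ⁅(⟨_, hm1⟩ : Bk.stab), ⟨_, hm2⟩⁆ = 1 := by
        rw [map_commutatorElement, commutatorElement_eq_one_iff_mul_comm]
        exact hu _ ⟨⟨_, rfl⟩, hf1⟩ _ ⟨⟨_, rfl⟩, hf2⟩
      have hfix := (res_eq_one_iff _ _).mp hc y hy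
      convert hfix using 2
      simp only [commutatorElement_def, Subgroup.coe_mul, Subgroup.coe_inv]
      group
  exact congrArg Subtype.val (commutatorElement_eq_one_iff_mul_comm.mp h1)

end CfsgLib.StabLength.Odd

namespace CfsgLib.StabLength

open OddBase

/-- The odd half: an abelian stabiliser. -/
theorem oddHalf : OddHalf.{u} := by
  suffices H : ∀ (n : ℕ) (V : Type u) [AddCommGroup V] [Finite V] (A : Subgroup (Aut V)),
      Nat.card V = n → Group.IsSolvable A → Odd (Nat.card A) → CR A → ∀ p : ℕ, p.Prime → p ≠ 2 →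
      (∀ v : V, p • v = 0) →
      ∃ v : V, ∀ a ∈ stabV A v, ∀ b ∈ stabV A v, a * b = b * a from
    fun V _ _ A => H _ V A rfl
  intro n
  induction n using Nat.strong_induction_on with
  | _ n ih =>
    intro V _ _ A hn hsol hodd hcr p hp hp2 hpV
    subst hn
    rcases subsingleton_or_nontrivial V with hV | hV
    · exact ⟨0, fun a _ b _ => aut_ext fun v => Subsingleton.elim _ _⟩
    have hsub : ∀ (X : AddSubgroup V) (x : X), p • x = 0 := fun X x => Subtype.ext (hpV x)
    by_cases hirr : Irr A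
    · by_cases hB : Nonempty (Blocks A)
      · obtain ⟨Bk⟩ := hB
        have hlt : Nat.card Bk.space < Nat.card V := by
          rw [Bk.card_eq]
          calc Nat.card Bk.space = Nat.card Bk.space ^ 1 := (pow_one _).symm
            _ < _ := Nat.pow_lt_pow_right Bk.two_le_space Bk.two
        have hTle : Bk.stab ≤ A := fun a ha => ha.1
        haveI := hsol
        exact Odd.exists_blocks hsol hodd Bk hp hp2 hpV (ih _ hlt Bk.space _ rfl
          (solvable_range _
            (Group.isSolvable_of_isSolvable_injective (Subgroup.inclusion_injective hTle)))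
          (odd_range _ (hodd.of_dvd_nat (Subgroup.card_dvd_of_le hTle)))
          (CR.of_irr (Bk.irr_space hirr)) p hp hp2 (hsub _))
      · exact Odd.exists_prim hsol hodd
          (fun B hBn hBc => (blocks_or_field hirr hBn hBc).resolve_left hB) hp hp2 hpV
    · unfold Irr at hirr
      push Not at hirr
      obtain ⟨U, hU, hU0, hU1⟩ := hirr
      obtain ⟨W, hW, hd, hs⟩ := hcr U hU
      have hW1 : W ≠ ⊤ := by rintro rfl; rw [inf_top_eq] at hd; exact hU0 hd
      exact Odd.exists_sum hU hW hd hs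
        (ih _ (Odd.card_inv_lt hU1) U _ rfl (solvable_range _ hsol) (odd_range _ hodd) (hcr.res hU)
          p hp hp2 (hsub _))
        (ih _ (Odd.card_inv_lt hW1) W _ rfl (solvable_range _ hsol) (odd_range _ hodd) (hcr.res hW)
          p hp hp2 (hsub _))

end CfsgLib.StabLength
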