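import Cfsg.Agent.OddBase.Main

/-!
Soluble completely reducible groups of odd order on small modules whose invariant subgroups have
square order: abelian, or with derived subgroup of order at most 91 (S4070, the odd half).
-/

set_option autoImplicit false
set_option linter.style.haveILetI false
set_option linter.unusedSectionVars false

universe u

namespace CfsgLib.StabLength.Odd

open OddBase
open scoped commutatorElement

/-- Commutators centralize a cyclic normal subgroup. -/
lemma comm_cyclic {G : Type*} [Group G] {A A0 : Subgroup G} (hc : IsCyclic A0)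
    (hn : ∀ g ∈ A, ∀ a ∈ A0, g * a * g⁻¹ ∈ A0) {g h : G} (hg : g ∈ A) (hh : h ∈ A) :
    ⁅g, h⁆ ∈ Subgroup.centralizer (A0 : Set G) := by
  obtain ⟨a, ha⟩ := hc.exists_generator
  have hpow : ∀ t ∈ A, ∃ i : ℤ, ∀ x ∈ A0, t * x * t⁻¹ = x ^ i := by
    intro t ht
    obtain ⟨i, hi⟩ := Subgroup.mem_zpowers_iff.mp (ha ⟨_, hn t ht a a.2⟩)
    have hi' : (a : G) ^ i = t * a * t⁻¹ := by simpa using congrArg Subtype.val hi
    refine ⟨i, fun x hx => ?_⟩
    obtain ⟨l, hl⟩ := Subgroup.mem_zpowers_iff.mp (ha ⟨x, hx⟩)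
    have hl' : (a : G) ^ l = x := by simpa using congrArg Subtype.val hl
    rw [← hl', ← conj_zpow, ← hi', ← zpow_mul, ← zpow_mul, mul_comm]
  obtain ⟨i, hi⟩ := hpow g hg
  obtain ⟨j, hj⟩ := hpow h hh
  refine Subgroup.mem_centralizer_iff.mpr fun x hx => ?_
  set y := (h * g)⁻¹ * x * (h * g) with hy
  have hyA : y ∈ A0 := by simpa [hy] using hn _ (A.inv_mem (A.mul_mem hh hg)) x hx
  have e1 : g * h * y * (g * h)⁻¹ = y ^ (i * j) := by
    rw [show g * h * y * (g * h)⁻¹ = g * (h * y * h⁻¹) * g⁻¹ by group, hj y hyA, ← conj_zpow,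
      hi y hyA, zpow_mul]
  have e2 : h * g * y * (h * g)⁻¹ = y ^ (i * j) := by
    rw [show h * g * y * (h * g)⁻¹ = h * (g * y * g⁻¹) * h⁻¹ by group, hi y hyA, ← conj_zpow,
      hj y hyA, ← zpow_mul, mul_comm]
  have hxy : x = h * g * y * (h * g)⁻¹ := by rw [hy]; group
  calc x * ⁅g, h⁆ = h * g * y * (h * g)⁻¹ * ⁅g, h⁆ := by rw [← hxy]
    _ = g * h * y * (g * h)⁻¹ * ⁅g, h⁆ := by rw [e1, e2]
    _ = ⁅g, h⁆ * (h * g * y * (h * g)⁻¹) := by simp only [commutatorElement_def]; group
    _ = ⁅g, h⁆ * x := by rw [← hxy]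

variable {V : Type u} [AddCommGroup V] {A : Subgroup (Aut V)}

/-- The order of an irreducible module is a prime power. -/
lemma exists_pow_card [Finite V] [Nontrivial V] (hirr : Irr A) :
    ∃ r k : ℕ, r.Prime ∧ 0 < k ∧ Nat.card V = r ^ k := by
  obtain ⟨r, hr, hd⟩ := Nat.exists_prime_and_dvd (Finite.one_lt_card (α := V)).ne'
  haveI := Fact.mk hr
  obtain ⟨x, hx⟩ := exists_prime_addOrderOf_dvd_card' r hd
  have hx0 : x ≠ 0 := fun e => by rw [e, addOrderOf_zero] at hx; exact hr.one_lt.ne hx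
  let K : AddSubgroup V :=
    { carrier := {v | r • v = 0}
      zero_mem' := smul_zero r
      add_mem' := fun {a b} ha hb => show r • (a + b) = 0 by rw [smul_add, ha, hb, add_zero]
      neg_mem' := fun {a} ha => show r • (-a) = 0 by rw [smul_neg, ha, neg_zero] }
  have hK : Inv A K := fun a _ v hv => show r • a • v = 0 by
    rw [smul_comm, (hv : r • v = 0), smul_zero]
  rcases hirr K hK with h | h
  · exfalso
    have : x ∈ K := show r • x = 0 by rw [← hx]; exact addOrderOf_nsmul_eq_zero x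
    rw [h, AddSubgroup.mem_bot] at this
    exact hx0 this
  · have hP : IsPGroup r (Multiplicative V) := fun g => ⟨1, by
      rw [pow_one]
      have : Multiplicative.toAdd g ∈ K := by rw [h]; trivial
      exact Multiplicative.toAdd.injective this⟩
    obtain ⟨k, hk⟩ := IsPGroup.iff_card.mp hP
    have hk' : Nat.card V = r ^ k := hk
    refine ⟨r, k, hr, Nat.pos_of_ne_zero fun e => ?_, hk'⟩
    rw [e, pow_zero] at hk'
    exact (Finite.one_lt_card (α := V)).ne' hk'

/-- The degree of a block system divides the dimension. -/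
lemma blocks_dim [Finite V] (Bk : Blocks A) (hodd : Odd (Nat.card A)) {r k : ℕ} (hr : r.Prime)
    (hV : Nat.card V = r ^ k) :
    ∃ N j, Odd N ∧ 3 ≤ N ∧ j * N = k ∧ Nat.card Bk.space = r ^ j := by
  obtain ⟨l, hl⟩ := Bk.odd_O hodd
  have h2 := Bk.two
  have hc := Bk.card_eq
  rw [hV] at hc
  have hd : Nat.card Bk.space ∣ r ^ k := hc ▸ dvd_pow_self _ (by omega)
  obtain ⟨j, -, hj⟩ := (Nat.dvd_prime_pow hr).mp hd
  rw [hj, ← pow_mul] at hc
  exact ⟨Bk.O.card, j, ⟨l, hl⟩, by omega, (Nat.pow_right_injective hr.two_le hc).symm, hj⟩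

/-- An irreducible group of odd order in dimension two, or four unless `3 ∣ r - 1`, is abelian. -/
theorem comm_of_irr [Finite V] (hsol : Group.IsSolvable A) (hodd : Odd (Nat.card A)) (hirr : Irr A)
    {r k : ℕ} (hr : r.Prime) (hV : Nat.card V = r ^ k) (hk : k = 2 ∨ k = 4)
    (h3 : k = 4 → ¬ 3 ∣ r - 1) : ∀ a ∈ A, ∀ b ∈ A, a * b = b * a := by
  haveI : Nontrivial V := Finite.one_lt_card_iff_nontrivial.mp (by
    rw [hV]; exact Nat.one_lt_pow (by omega) hr.one_lt)
  have hnb : ¬ Nonempty (Blocks A) := by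
    rintro ⟨Bk⟩
    obtain ⟨N, j, hN, hN3, hjN, -⟩ := blocks_dim Bk hodd hr hV
    obtain ⟨l, rfl⟩ := hN
    rcases Nat.lt_or_ge j 2 with hj | hj
    · interval_cases j <;> omega
    · have := Nat.mul_le_mul hj hN3; omega
  obtain ⟨D, -, -⟩ := exists_primData_span hsol fun B hBn hBc =>
    (blocks_or_field hirr hBn hBc).resolve_left hnb
  have hqm := D.hV
  rw [D.hq, ← pow_mul, hV] at hqm
  obtain ⟨hp, hfm⟩ := pow_eq_prime_pow D.hp hr (Nat.mul_pos D.hf D.hm) hqm
  rcases prim_cases D hodd with ⟨-, hC⟩ | ⟨e, he3, heodd, -, hem, -, hdvd⟩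
  · have hd : Odd D.d := hodd.of_dvd_nat (Dvd.intro_left _ D.card_A.symm)
    have hfk : D.f ∣ k := hfm ▸ dvd_mul_right _ _
    have hd4 : D.d ∣ 4 := D.hd.trans (hfk.trans (by rcases hk with rfl | rfl <;> norm_num))
    have hd1 : D.d = 1 := by
      obtain ⟨l, hl⟩ := hd
      have := Nat.le_of_dvd (by norm_num) hd4
      interval_cases hD : D.d <;> omega
    have hA0C : D.S.A0 = D.S.C :=
      Subgroup.eq_of_le_of_card_ge (D.S.a0_le.trans D.S.e_le) hC.le
    have hCA : D.S.C = A := Subgroup.eq_of_le_of_card_ge (D.S.c_le.trans D.hA.le)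
      (by rw [D.card_A, hd1, mul_one])
    intro a ha b hb
    rw [← hCA] at ha hb
    rw [← hA0C] at hb
    exact D.S.cen a ha b hb
  · exfalso
    have hf1 := D.hf
    have hm3 : 3 ≤ D.m := he3.trans hem
    rcases hk with rfl | rfl
    · have := Nat.mul_le_mul hf1 hm3; omega
    · have hf : D.f = 1 := by
        by_contra hne
        have := Nat.mul_le_mul (show 2 ≤ D.f by omega) hm3
        omega
      have he : e = 3 := by
        obtain ⟨l, hl⟩ := heodd
        rw [hf, one_mul] at hfm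
        omega
      have := hdvd 3 Nat.prime_three (he ▸ dvd_rfl)
      rw [D.hq, hf, pow_one, hp] at this
      exact h3 rfl this

/-- Every invariant subgroup has square order. -/
def SquareInv (A : Subgroup (Aut V)) : Prop :=
  ∀ Y : AddSubgroup V, Inv A Y → IsSquare (Nat.card Y)

lemma SquareInv.res (h : SquareInv A) {U : AddSubgroup V} (hU : Inv A U) :
    SquareInv (OddBase.res A U hU).range := by
  intro Y hY
  have hY' : Inv A (Y.map U.subtype) := by
    rintro a ha _ ⟨y, hy, rfl⟩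
    exact ⟨OddBase.res A U hU ⟨a, ha⟩ • y, hY _ ⟨_, rfl⟩ y hy, rfl⟩
  rw [Nat.card_congr (Y.equivMapOfInjective U.subtype Subtype.val_injective).toEquiv]
  exact h _ hY'

lemma card_inv_lt [Finite V] {X : AddSubgroup V} (hX : X ≠ ⊤) : Nat.card X < Nat.card V :=
  lt_of_le_of_ne (Nat.card_le_card_of_injective _ Subtype.val_injective)
    fun e => hX (AddSubgroup.eq_top_of_card_eq X e)

/-- Splitting: the group is abelian if both restrictions are. -/
lemma comm_of_sum {U W : AddSubgroup V} (hU : Inv A U) (hW : Inv A W) (hs : U ⊔ W = ⊤)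
    (h1 : ∀ a ∈ (res A U hU).range, ∀ b ∈ (res A U hU).range, a * b = b * a)
    (h2 : ∀ a ∈ (res A W hW).range, ∀ b ∈ (res A W hW).range, a * b = b * a) :
    ∀ a ∈ A, ∀ b ∈ A, a * b = b * a := by
  intro a ha b hb
  have h := eq_one_of_res hU hW hs ⁅(⟨a, ha⟩ : A), ⟨b, hb⟩⁆
    (by rw [map_commutatorElement, commutatorElement_eq_one_iff_mul_comm]; exact h1 _ ⟨_, rfl⟩ _ ⟨_, rfl⟩)
    (by rw [map_commutatorElement, commutatorElement_eq_one_iff_mul_comm]; exact h2 _ ⟨_, rfl⟩ _ ⟨_, rfl⟩)
  exact congrArg Subtype.val (commutatorElement_eq_one_iff_mul_comm.mp h)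

/-- Small groups with square invariant subgroups are abelian. -/
theorem comm_of_squares : ∀ (n : ℕ) (V : Type u) [AddCommGroup V] [Finite V] (A : Subgroup (Aut V)),
    Nat.card V = n → Group.IsSolvable A → Odd (Nat.card A) → CR A → SquareInv A →
      (∀ r : ℕ, r.Prime → ¬ r ^ 6 ∣ n ∧ (r ^ 4 ∣ n → ¬ 3 ∣ r - 1)) →
      ∀ a ∈ A, ∀ b ∈ A, a * b = b * a := by
  intro n
  induction n using Nat.strong_induction_on with
  | _ n ih =>
    intro V _ _ A hn hsol hodd hcr hsq hdim
    rcases subsingleton_or_nontrivial V with hV | hV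
    · exact fun a _ b _ => aut_ext fun v => Subsingleton.elim _ _
    by_cases hirr : Irr A
    · obtain ⟨r, k, hr, hk0, hk⟩ := exists_pow_card hirr
      have hk2 : Even k := by
        obtain ⟨s, hs⟩ := hsq ⊤ fun _ _ _ _ => trivial
        rw [Nat.card_congr AddSubgroup.topEquiv.toEquiv, hk] at hs
        obtain ⟨j, -, rfl⟩ := (Nat.dvd_prime_pow hr).mp (Dvd.intro _ hs.symm)
        rw [← pow_add] at hs
        exact ⟨j, Nat.pow_right_injective hr.two_le hs⟩
      obtain ⟨h6, h4⟩ := hdim r hr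
      rw [← hn, hk] at h6 h4
      have hk6 : k < 6 := by
        by_contra h
        exact h6 (pow_dvd_pow r (by omega))
      obtain ⟨j, hj⟩ := hk2
      exact comm_of_irr hsol hodd hirr hr hk (by omega) fun h => h4 (h ▸ dvd_rfl)
    · unfold Irr at hirr
      push Not at hirr
      obtain ⟨U, hU, hU0, hU1⟩ := hirr
      obtain ⟨W, hW, hd, hs⟩ := hcr U hU
      have hW1 : W ≠ ⊤ := by rintro rfl; rw [inf_top_eq] at hd; exact hU0 hd
      have key : ∀ (X : AddSubgroup V) (hX : Inv A X), X ≠ ⊤ →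
          ∀ a ∈ (res A X hX).range, ∀ b ∈ (res A X hX).range, a * b = b * a := by
        intro X hX hX1
        refine ih _ (hn ▸ card_inv_lt hX1) X _ rfl (solvable_range _ hsol) (odd_range _ hodd)
          (hcr.res hX) (hsq.res hX) fun r hr => ?_
        have hd : Nat.card X ∣ n := hn ▸ AddSubgroup.card_addSubgroup_dvd_card X
        exact ⟨fun h => (hdim r hr).1 (h.trans hd), fun h => (hdim r hr).2 (h.trans hd)⟩
      exact comm_of_sum hU hW hs (key U hU hU1) (key W hW hW1)

/-- An irreducible group of odd order on `3⁶` points has derived subgroup of order at most 91. -/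
theorem derived_irr [Finite V] (hsol : Group.IsSolvable A) (hodd : Odd (Nat.card A)) (hirr : Irr A)
    (hV : Nat.card V = 729) : Nat.card (⁅A, A⁆ : Subgroup (Aut V)) ≤ 91 := by
  haveI : Nontrivial V := Finite.one_lt_card_iff_nontrivial.mp (by omega)
  have hV6 : Nat.card V = 3 ^ 6 := by rw [hV]; norm_num
  have hnb : ¬ Nonempty (Blocks A) := by
    rintro ⟨Bk⟩
    obtain ⟨N, j, hN, hN3, hjN, hs⟩ := blocks_dim Bk hodd Nat.prime_three hV6
    obtain ⟨l, rfl⟩ := hN
    have hj : j = 2 := by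
      have := Nat.mul_le_mul (le_refl j) hN3
      have hj2 : j ≤ 2 := by omega
      interval_cases j <;> omega
    have h9 : Nat.card Bk.space = 9 := by rw [hs, hj]; norm_num
    have hT : Bk.stab ≤ A := fun a ha => ha.1
    haveI := hsol
    have hR := (irr_small (A := (res Bk.stab Bk.space Bk.inv_space).range)
      (solvable_range _ (Group.isSolvable_of_isSolvable_injective (Subgroup.inclusion_injective hT)))
      (odd_range _ (hodd.of_dvd_nat (Subgroup.card_dvd_of_le hT))) (Bk.irr_space hirr)).1 h9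
    rw [Subgroup.card_eq_one] at hR
    haveI := Fact.mk Nat.prime_three
    obtain ⟨x, hx⟩ := exists_prime_addOrderOf_dvd_card' (G := Bk.space) 3 (by rw [h9]; norm_num)
    have hinv : Inv (res Bk.stab Bk.space Bk.inv_space).range (AddSubgroup.zmultiples x) := by
      intro a ha v hv
      rw [hR, Subgroup.mem_bot] at ha
      rw [ha, one_smul]
      exact hv
    rcases Bk.irr_space hirr _ hinv with h | h
    · have := AddSubgroup.mem_zmultiples x
      rw [h, AddSubgroup.mem_bot] at this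
      rw [this, addOrderOf_zero] at hx
      omega
    · have := Nat.card_zmultiples x
      rw [h, hx, Nat.card_congr AddSubgroup.topEquiv.toEquiv, h9] at this
      omega
  obtain ⟨D, hcent, -⟩ := exists_primData_span hsol fun B hBn hBc =>
    (blocks_or_field hirr hBn hBc).resolve_left hnb
  have hqm := D.hV
  rw [D.hq, ← pow_mul, hV6] at hqm
  obtain ⟨hp, hfm⟩ := pow_eq_prime_pow D.hp Nat.prime_three (Nat.mul_pos D.hf D.hm) hqm
  have hf6 : D.f ∣ 6 := hfm ▸ dvd_mul_right _ _
  have hfle := Nat.le_of_dvd (by norm_num) hf6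
  have hf1 := D.hf
  rcases prim_cases D hodd with ⟨-, hC⟩ | ⟨e, he3, heodd, -, hem, -, hdvd⟩
  · have hle : ⁅A, A⁆ ≤ D.S.C := by
      rw [Subgroup.commutator_le]
      intro g hg h hh
      rw [hcent]
      exact ⟨A.mul_mem (A.mul_mem (A.mul_mem hg hh) (A.inv_mem hg)) (A.inv_mem hh),
        comm_cyclic D.S.cyc (fun t ht => D.S.a0_norm t (D.hA.ge ht)) hg hh⟩
    refine (Nat.le_of_dvd Nat.card_pos (Subgroup.card_dvd_of_le hle)).trans ?_
    rw [hC]
    refine Nat.le_of_dvd (by norm_num) ?_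
    have h1 : Odd (Nat.card D.S.A0) := hodd.of_dvd_nat (Subgroup.card_dvd_of_le
      ((D.S.a0_le.trans D.S.e_le).trans (D.S.c_le.trans D.hA.le)))
    have h728 : Nat.card D.S.A0 ∣ 728 := by
      refine D.a0_dvd.trans ?_
      rw [D.hq, hp]
      interval_cases D.f <;> norm_num at *
    exact (Nat.Coprime.pow_right 3 (Nat.coprime_two_right.mpr h1)).dvd_of_dvd_mul_left
      (show Nat.card D.S.A0 ∣ 2 ^ 3 * 91 by norm_num; exact h728)
  · exfalso
    obtain ⟨l, hl⟩ := heodd
    have hm3 : 3 ≤ D.m := he3.trans hem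
    have hf2 : D.f ≤ 2 := by
      by_contra h
      have := Nat.mul_le_mul (show 3 ≤ D.f by omega) hm3
      omega
    obtain ⟨r, hrp, hre⟩ := Nat.exists_prime_and_dvd (show e ≠ 1 by omega)
    have h3r := hdvd r hrp hre
    have hr3 : 3 ≤ r := by
      have := hrp.two_le
      rcases eq_or_ne r 2 with rfl | hne
      · omega
      · omega
    rw [D.hq, hp] at h3r
    interval_cases hf : D.f
    · have := Nat.le_of_dvd (by norm_num) h3r; omega
    · have h8 : r ∣ 2 ^ 3 := by norm_num at h3r ⊢; exact h3r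
      have := Nat.le_of_dvd (by norm_num) ((Nat.prime_dvd_prime_iff_eq hrp Nat.prime_two).mp
        (hrp.dvd_of_dvd_pow h8) ▸ dvd_rfl : r ∣ 2)
      omega

end CfsgLib.StabLength.Odd
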