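import Cfsg.Agent.StabLength.Iface
import Cfsg.Agent.StabLength.Odd.Small

/-!
An abelian vector stabiliser in the primitive case of the odd half (S4070).
-/

set_option autoImplicit false
set_option linter.style.haveILetI false
set_option linter.unusedSectionVars false

universe u

namespace CfsgLib.StabLength.Odd

open OddBase
open scoped commutatorElement

variable {V : Type u} [AddCommGroup V] {A : Subgroup (Aut V)}

lemma cube_lt (k : ℕ) (hk : 1 ≤ k) : (2 * k + 1) ^ 3 < 7 ^ (k + 1) := by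
  induction k, hk using Nat.le_induction with
  | base => norm_num
  | succ k hk ih =>
    have h1 : (2 * (k + 1) + 1) ^ 3 ≤ 7 * (2 * k + 1) ^ 3 :=
      calc (2 * (k + 1) + 1) ^ 3 = 8 * k ^ 3 + 36 * k ^ 2 + 54 * k + 27 := by ring
        _ ≤ 7 * (2 * k + 1) ^ 3 := by
          have : k ≤ k ^ 3 := Nat.le_self_pow (by norm_num) k
          have : k ≤ k ^ 2 := Nat.le_self_pow (by norm_num) k
          ring_nf
          omega
    rw [pow_succ 7 (k + 1), mul_comm (7 ^ (k + 1))]
    exact lt_of_le_of_lt h1 (by omega)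

lemma six_pow_le (j : ℕ) (hj : 12 ≤ j) : (4 * j - 1) ^ 6 ≤ 6 * 7 ^ (j - 1) := by
  induction j, hj using Nat.le_induction with
  | base => norm_num
  | succ j hj ih =>
    have h1 : (10 * (4 * (j + 1) - 1)) ^ 6 ≤ (11 * (4 * j - 1)) ^ 6 :=
      Nat.pow_le_pow_left (by omega) 6
    rw [mul_pow, mul_pow] at h1
    norm_num at h1
    have h2 : 7 ^ (j + 1 - 1) = 7 * 7 ^ (j - 1) := by
      rw [← pow_succ', show j - 1 + 1 = j + 1 - 1 by omega]
    rw [h2]
    omega

/-- A vector outside a union of small fixed spaces. -/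
lemma exists_not_fixed [Finite V] [Nontrivial V] (T : Set (Aut V)) (b : ℕ)
    (h : ∀ g ∈ T, Nat.card (fixA g) ≤ b) (hlt : Nat.card T * b < Nat.card V) :
    ∃ w : V, w ≠ 0 ∧ ∀ g ∈ T, g • w ≠ w := by
  classical
  by_cases hT : T = ∅
  · obtain ⟨w, hw⟩ := exists_ne (0 : V)
    exact ⟨w, hw, fun g hg => by simp [hT] at hg⟩
  obtain ⟨g0, hg0⟩ := Set.nonempty_iff_ne_empty.mpr hT
  suffices hex : ∃ w : V, ∀ g ∈ T, g • w ≠ w by
    obtain ⟨w, hw⟩ := hex
    exact ⟨w, fun e => hw g0 hg0 (by rw [e, smul_zero]), hw⟩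
  by_contra hcon
  push Not at hcon
  have hTf : Finite T := Finite.of_injective _ Subtype.val_injective
  have : Fintype T := Fintype.ofFinite T
  choose g hg hfix using hcon
  have hle := Nat.card_le_card_of_injective
    (fun w : V => (⟨⟨g w, hg w⟩, ⟨w, hfix w⟩⟩ : Σ t : T, fixA (t : Aut V)))
    fun a b hab => congrArg (fun z : Σ t : T, fixA (t : Aut V) => (z.2 : V)) hab
  rw [Nat.card_sigma] at hle
  have := (hle.trans (Finset.sum_le_sum (g := fun _ => b) fun t _ => h t t.2))
  rw [Finset.sum_const, smul_eq_mul, Finset.card_univ, ← Nat.card_eq_fintype_card] at this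
  omega

/-- The fixed vectors of an element of `C` form a space over the field. -/
lemma card_fix_pow [Finite V] [Nontrivial V] (D : PrimData A) (hfield : AllFields A)
    (hq : D.q = Nat.card (spanRing D.S.A0)) {g : Aut V} (hg : g ∈ D.S.C) :
    ∃ i, Nat.card (fixA g) = D.q ^ i := by
  have hAn : NormSub A D.S.A0 :=
    ⟨(D.S.a0_le.trans D.S.e_le).trans (D.S.c_le.trans D.hA.le),
      fun t ht => D.S.a0_norm t (D.hA.ge ht)⟩
  have hc : ∀ a ∈ D.S.A0, ∀ b ∈ D.S.A0, a * b = b * a := fun a ha b hb =>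
    D.S.cen a (D.S.e_le (D.S.a0_le ha)) b hb
  letI : Field (spanRing D.S.A0) := fieldOf hc (hfield _ hAn hc)
  letI : Module (spanRing D.S.A0) V := inferInstance
  let W : Submodule (spanRing D.S.A0) V :=
    { carrier := fixA g
      add_mem' := fun {a b} ha hb => (fixA g).add_mem ha hb
      zero_mem' := (fixA g).zero_mem
      smul_mem' := fun x v (hv : g • v = v) => show g • ((x : AddMonoid.End V) v) = _ by
        rw [show g • ((x : AddMonoid.End V) v) = (x : AddMonoid.End V) (g • v) from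
          DFunLike.congr_fun (comm_spanRing (D.S.cen g hg) x.2) v, hv]
        rfl }
  refine ⟨Module.finrank (spanRing D.S.A0) W, ?_⟩
  rw [hq]
  exact Module.natCard_eq_pow_finrank (K := spanRing D.S.A0) (V := W)

/-- The induced group on `E/A₀`: abelian, or `e = 27` with small derived group, or `e` is big. -/
lemma act_cases [Finite V] (D : PrimData A) (hsol : Group.IsSolvable A) (hodd : Odd (Nat.card A))
    {e : ℕ} (he : Odd e) (hU : Nat.card D.S.U = e * e) :
    (∀ a ∈ D.S.act.range, ∀ b ∈ D.S.act.range, a * b = b * a) ∨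
      (e = 27 ∧ Nat.card (⁅D.S.act.range, D.S.act.range⁆ : Subgroup _) ≤ 91) ∨ 45 ≤ e := by
  by_cases h45 : 45 ≤ e
  · exact Or.inr (Or.inr h45)
  have hSsol : Group.IsSolvable D.S.A := by rw [D.hA]; exact hsol
  have hSodd : Odd (Nat.card D.S.A) := by rw [D.hA]; exact hodd
  have hR := solvable_range D.S.act hSsol
  have hRo := odd_range D.S.act hSodd
  have hsq : SquareInv D.S.act.range := fun Y hY => D.S.isSquare_inv hY
  have hcardU : Nat.card (Additive D.S.U) = e * e := hU
  by_cases h27 : e = 27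
  · subst h27
    by_cases hirr : Irr D.S.act.range
    · exact Or.inr (Or.inl ⟨rfl, derived_irr hR hRo hirr (by rw [hcardU])⟩)
    · left
      unfold Irr at hirr
      push Not at hirr
      obtain ⟨X, hX, hX0, hX1⟩ := hirr
      obtain ⟨Y, hY, hd, hs⟩ := D.S.cr_act X hX
      have hY1 : Y ≠ ⊤ := by rintro rfl; rw [inf_top_eq] at hd; exact hX0 hd
      have key : ∀ (Z : AddSubgroup (Additive D.S.U)) (hZ : Inv D.S.act.range Z), Z ≠ ⊤ →
          ∀ a ∈ (res D.S.act.range Z hZ).range, ∀ b ∈ (res D.S.act.range Z hZ).range,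
            a * b = b * a := by
        intro Z hZ hZ1
        refine comm_of_squares _ Z _ rfl (solvable_range _ hR) (odd_range _ hRo)
          (D.S.cr_act.res hZ) (hsq.res hZ) fun r hr => ?_
        have hlt := card_inv_lt hZ1
        have hdvd := AddSubgroup.card_addSubgroup_dvd_card Z
        rw [hcardU] at hlt hdvd
        norm_num at hlt hdvd
        have hr3 : ∀ j, 0 < j → r ^ j ∣ Nat.card Z → r = 3 := fun j hj h =>
          (Nat.prime_dvd_prime_iff_eq hr Nat.prime_three).mp (hr.dvd_of_dvd_pow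
            (show r ∣ 3 ^ 6 from (dvd_pow_self r hj.ne').trans (h.trans hdvd)))
        refine ⟨fun h6 => ?_, fun h4 => ?_⟩
        · have := Nat.le_of_dvd Nat.card_pos h6
          rw [hr3 6 (by norm_num) h6] at this
          norm_num at this
          omega
        · rw [hr3 4 (by norm_num) h4]
          norm_num
      exact comm_of_sum hX hY hs (key X hX hX1) (key Y hY hY1)
  · left
    refine comm_of_squares _ (Additive D.S.U) _ rfl hR hRo D.S.cr_act hsq fun r hr => ?_
    rw [hcardU, ← sq]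
    have he0 : 0 < e := he.pos
    have hrodd : ∀ j, r ^ j ∣ e → 0 < j → r ≠ 2 := fun j hj hj0 h2 => by
      have h2e : 2 ∣ e := (dvd_pow_self 2 hj0.ne').trans (h2 ▸ hj)
      obtain ⟨l, hl⟩ := he
      omega
    refine ⟨fun h6 => ?_, fun h4 => ?_⟩
    · have h3 : r ^ 3 ∣ e := (Nat.pow_dvd_pow_iff two_ne_zero).mp (by rw [← pow_mul]; exact h6)
      have hne := hrodd 3 h3 (by norm_num)
      have hle := Nat.le_of_dvd he0 h3
      have h2 := hr.two_le
      have hr4 : r < 4 := by
        by_contra h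
        have := Nat.pow_le_pow_left (show 4 ≤ r by omega) 3
        omega
      obtain rfl : r = 3 := by omega
      obtain ⟨l, hl⟩ := h3
      norm_num at hl
      omega
    · have h2 : r ^ 2 ∣ e := (Nat.pow_dvd_pow_iff two_ne_zero).mp (by rw [← pow_mul]; exact h4)
      have hle := Nat.le_of_dvd he0 h2
      have hr7 : r < 7 := by
        by_contra h
        have := Nat.pow_le_pow_left (show 7 ≤ r by omega) 2
        omega
      interval_cases r <;> norm_num at *

/-- Elements of `E` of exponent dividing `e` are few. -/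
lemma card_cand [Finite V] (D : PrimData A) {e : ℕ} (he : 0 < e) (hU : Nat.card D.S.U = e * e) :
    Nat.card {g : D.S.E // (g : Aut V) ^ e = 1} ≤ e * e * e := by
  classical
  haveI := D.S.cyc
  let T := {g : D.S.E // (g : Aut V) ^ e = 1}
  haveI : Nonempty T := ⟨⟨1, one_pow e⟩⟩
  let π : T → D.S.U := fun g => QuotientGroup.mk g.1
  have hπ : ∀ g : T, π (Function.invFun π (π g)) = π g := fun g => Function.invFun_eq ⟨g, rfl⟩
  have hmem : ∀ g : T,
      ((Function.invFun π (π g)).1 : Aut V)⁻¹ * (g.1 : Aut V) ∈ D.S.A0 := fun g => by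
    have h := QuotientGroup.eq.mp (hπ g)
    rwa [Subgroup.mem_subgroupOf, Subgroup.coe_mul, Subgroup.coe_inv] at h
  have hpow : ∀ g : T,
      (((Function.invFun π (π g)).1 : Aut V)⁻¹ * (g.1 : Aut V)) ^ e = 1 := fun g => by
    set r := Function.invFun π (π g)
    have hc : Commute (r.1 : Aut V) ((r.1 : Aut V)⁻¹ * (g.1 : Aut V)) :=
      D.S.cen _ (D.S.e_le r.1.2) _ (hmem g)
    have h := g.2
    rw [← mul_inv_cancel_left (r.1 : Aut V) (g.1 : Aut V), hc.mul_pow, r.2, one_mul] at h
    exact h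
  let f : T → D.S.U × {a : D.S.A0 // a ^ e = 1} := fun g =>
    (π g, ⟨⟨_, hmem g⟩, Subtype.ext (hpow g)⟩)
  have hf : Function.Injective f := fun a b hab => by
    have h1 : π a = π b := congrArg Prod.fst hab
    have h2 : ((Function.invFun π (π a)).1 : Aut V)⁻¹ * (a.1 : Aut V) =
        ((Function.invFun π (π b)).1 : Aut V)⁻¹ * (b.1 : Aut V) :=
      congrArg (fun z : D.S.U × {a : D.S.A0 // a ^ e = 1} => ((z.2.1 : D.S.A0) : Aut V)) hab
    rw [h1] at h2
    exact Subtype.ext (Subtype.ext (mul_left_cancel h2))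
  refine (Nat.card_le_card_of_injective f hf).trans ?_
  rw [Nat.card_prod, hU]
  refine Nat.mul_le_mul_left _ ?_
  have : Fintype D.S.A0 := Fintype.ofFinite _
  rw [Nat.card_eq_fintype_card, Fintype.card_subtype]
  exact IsCyclic.card_pow_eq_one_le he

/-- A vector whose stabiliser is abelian, in the primitive case. -/
theorem exists_prim [Finite V] [Nontrivial V] (hsol : Group.IsSolvable A)
    (hodd : Odd (Nat.card A)) (hfield : AllFields A) {p : ℕ} (hp : p.Prime) (hp2 : p ≠ 2)
    (hpV : ∀ v : V, p • v = 0) :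
    ∃ w : V, ∀ a ∈ stabV A w, ∀ b ∈ stabV A w, a * b = b * a := by
  classical
  obtain ⟨D, hcent, hq⟩ := exists_primData_span hsol hfield
  suffices hmain : ∃ w : V, ∀ c : D.S.C, (c : Aut V) • w = w →
      D.S.act (Subgroup.inclusion D.S.c_le c) ∈ ⁅D.S.act.range, D.S.act.range⁆ → c = 1 by
    obtain ⟨w, hw⟩ := hmain
    refine ⟨w, fun a ha b hb => ?_⟩
    have ha' : a ∈ D.S.A := D.hA.ge ha.1
    have hb' : b ∈ D.S.A := D.hA.ge hb.1
    have hcA : ⁅a, b⁆ ∈ A :=
      A.mul_mem (A.mul_mem (A.mul_mem ha.1 hb.1) (A.inv_mem ha.1)) (A.inv_mem hb.1)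
    have hcC : ⁅a, b⁆ ∈ D.S.C := by
      rw [hcent]
      exact ⟨hcA, comm_cyclic D.S.cyc (fun t ht => D.S.a0_norm t (D.hA.ge ht)) ha.1 hb.1⟩
    have hfix : ⁅a, b⁆ ∈ MulAction.stabilizer (Aut V) w :=
      Subgroup.mul_mem _ (Subgroup.mul_mem _ (Subgroup.mul_mem _ ha.2 hb.2)
        (Subgroup.inv_mem _ ha.2)) (Subgroup.inv_mem _ hb.2)
    have hK : D.S.act (Subgroup.inclusion D.S.c_le ⟨_, hcC⟩) ∈
        ⁅D.S.act.range, D.S.act.range⁆ := by
      rw [show Subgroup.inclusion D.S.c_le ⟨_, hcC⟩ = ⁅(⟨a, ha'⟩ : D.S.A), ⟨b, hb'⟩⁆ from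
        Subtype.ext rfl, map_commutatorElement]
      exact Subgroup.commutator_mem_commutator ⟨_, rfl⟩ ⟨_, rfl⟩
    exact commutatorElement_eq_one_iff_mul_comm.mp
      (congrArg Subtype.val (hw ⟨_, hcC⟩ hfix hK))
  rcases prim_cases D hodd with ⟨-, hC⟩ | ⟨e, he3, heodd, hU, hem, -, hr⟩
  · have hA0C : D.S.A0 = D.S.C :=
      Subgroup.eq_of_le_of_card_ge (D.S.a0_le.trans D.S.e_le) hC.le
    obtain ⟨w, hw⟩ := exists_ne (0 : V)
    refine ⟨w, fun c hc _ => Subtype.ext ?_⟩
    by_contra hne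
    exact hw (D.fpf _ (hA0C.ge c.2) hne w hc)
  have hpp : D.p = p := by
    haveI := Fact.mk hp
    obtain ⟨k, hk⟩ := IsPGroup.iff_card.mp
      (show IsPGroup p (Multiplicative V) from fun g => ⟨1, by
        rw [pow_one]
        exact Multiplicative.toAdd.injective (hpV (Multiplicative.toAdd g))⟩)
    have hk' : Nat.card V = p ^ k := hk
    have hqm := D.hV
    rw [D.hq, ← pow_mul, hk'] at hqm
    exact (pow_eq_prime_pow D.hp hp (Nat.mul_pos D.hf D.hm) hqm).1
  have hqodd : Odd D.q := by rw [D.hq, hpp]; exact (hp.odd_of_ne_two hp2).pow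
  have hq7 : 7 ≤ D.q := by
    obtain ⟨r, hrp, hre⟩ := Nat.exists_prime_and_dvd (show e ≠ 1 by omega)
    have hr3 : 3 ≤ r := by
      have := hrp.two_le
      obtain ⟨l, hl⟩ := heodd
      rcases eq_or_ne r 2 with rfl | hne <;> omega
    obtain ⟨l, hl⟩ := hr r hrp hre
    have hq1 : D.q ≠ 1 := by
      rw [D.hq]
      exact (Nat.one_lt_pow (by have := D.hf; omega) D.hp.one_lt).ne'
    obtain ⟨i, hi⟩ := hqodd
    obtain ⟨l', rfl⟩ : 2 ∣ l := by
      have h2 : 2 ∣ r * l := by rw [← hl]; omega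
      refine (Nat.prime_two.dvd_mul.mp h2).resolve_left fun h => ?_
      have := (Nat.prime_dvd_prime_iff_eq Nat.prime_two hrp).mp h
      omega
    have : 6 * 1 ≤ (r * 2) * l' :=
      Nat.mul_le_mul (by omega) (Nat.pos_of_ne_zero fun h => by rw [h] at hl; omega)
    rw [mul_assoc] at this
    omega
  set φ := D.S.act.comp (Subgroup.inclusion D.S.c_le) with hφ
  rcases act_cases D hsol hodd heodd hU with hcomm | hbig
  · -- abelian action: only `E` matters
    have hfixT : ∀ g : Aut V, g ∈ D.S.E → g ≠ 1 → Nat.card (fixA g) ≤ D.q ^ (D.m / 2) := by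
      intro g hg hg1
      obtain ⟨i, hi⟩ := card_fix_pow D hfield hq (D.S.e_le hg)
      rw [hi]
      have h2 := D.fix_E g hg hg1
      rw [hi, ← D.hV, ← pow_mul] at h2
      have := (Nat.pow_le_pow_iff_right (by omega)).mp h2
      exact Nat.pow_le_pow_right (by omega) (by omega)
    have hcard : Nat.card ({g | g ∈ D.S.E ∧ g ^ e = 1 ∧ g ≠ 1} : Set (Aut V)) ≤ e * e * e :=
      (Nat.card_le_card_of_injective
        (fun g : ({g | g ∈ D.S.E ∧ g ^ e = 1 ∧ g ≠ 1} : Set (Aut V)) =>
          (⟨⟨g.1, g.2.1⟩, g.2.2.1⟩ : {g : D.S.E // (g : Aut V) ^ e = 1}))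
        fun a b hab => Subtype.ext (congrArg
          (fun z : {g : D.S.E // (g : Aut V) ^ e = 1} => ((z.1 : D.S.E) : Aut V)) hab)).trans
        (card_cand D (by omega) hU)
    obtain ⟨w, hw0, hw⟩ := exists_not_fixed {g | g ∈ D.S.E ∧ g ^ e = 1 ∧ g ≠ 1}
      (D.q ^ (D.m / 2)) (fun g hg => hfixT g hg.1 hg.2.2) (by
        obtain ⟨k, rfl⟩ := heodd
        refine lt_of_le_of_lt (Nat.mul_le_mul_right _ hcard) ?_
        rw [← D.hV, show D.q ^ D.m = D.q ^ (D.m - D.m / 2) * D.q ^ (D.m / 2) by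
          rw [← pow_add]; congr 1; omega]
        refine Nat.mul_lt_mul_of_pos_right ?_ (Nat.pow_pos (by omega))
        calc (2 * k + 1) * (2 * k + 1) * (2 * k + 1) = (2 * k + 1) ^ 3 := by ring
          _ < 7 ^ (k + 1) := cube_lt k (by omega)
          _ ≤ D.q ^ (k + 1) := Nat.pow_le_pow_left hq7 _
          _ ≤ _ := Nat.pow_le_pow_right (by omega) (by omega))
    refine ⟨w, fun c hc hK => ?_⟩
    have hbot : ⁅D.S.act.range, D.S.act.range⁆ = ⊥ := by
      rw [eq_bot_iff, Subgroup.commutator_le]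
      intro a ha b hb
      rw [Subgroup.mem_bot]
      exact commutatorElement_eq_one_iff_mul_comm.mpr (hcomm a ha b hb)
    rw [hbot, Subgroup.mem_bot] at hK
    have hE : (c : Aut V) ∈ D.S.E := by
      have h1 : c ∈ φ.ker := hK
      rw [hφ, D.S.ker_act_C, Subgroup.mem_subgroupOf] at h1
      exact h1
    by_contra hne
    have hne' : (c : Aut V) ≠ 1 := fun h => hne (Subtype.ext h)
    obtain ⟨r, hrp, hrd⟩ := Nat.exists_prime_and_dvd
      (show orderOf (c : Aut V) ≠ 1 from fun h => hne' (orderOf_eq_one_iff.mp h))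
    set g := (c : Aut V) ^ (orderOf (c : Aut V) / r)
    have hgr : orderOf g = r := orderOf_pow_orderOf_div (orderOf_pos _).ne' hrd
    have hgE : g ∈ D.S.E := D.S.E.pow_mem hE _
    have hg1 : g ≠ 1 := fun h => by
      rw [h, orderOf_one] at hgr
      exact hrp.ne_one hgr.symm
    have hgw : g • w = w := Subgroup.pow_mem (MulAction.stabilizer (Aut V) w) hc _
    have hgA : g ∉ D.S.A0 := fun h => hw0 (D.fpf g h hg1 w hgw)
    have hre : r ∣ e := by
      haveI := Fact.mk hrp
      have h1 : orderOf (QuotientGroup.mk ⟨g, hgE⟩ : D.S.U) = r := by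
        refine orderOf_eq_prime ?_ ?_
        · rw [← QuotientGroup.mk_pow, show (⟨g, hgE⟩ : D.S.E) ^ r = 1 from
            Subtype.ext (by rw [Subgroup.coe_pow, ← hgr]; exact pow_orderOf_eq_one g),
            QuotientGroup.mk_one]
        · rw [Ne, QuotientGroup.eq_one_iff, Subgroup.mem_subgroupOf]
          exact hgA
      have h2 : r ∣ e * e := by
        rw [← hU, ← h1]
        exact orderOf_dvd_natCard _
      exact (hrp.dvd_mul.mp h2).elim id id
    exact hw g ⟨hgE, orderOf_dvd_iff_pow_eq_one.mp (hgr ▸ hre), hg1⟩ hgw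
  · -- the general count
    set K : Subgroup (Aut (Additive D.S.U)) := ⁅D.S.act.range, D.S.act.range⁆ with hK
    set N := K.comap φ
    have hN : Nat.card N * D.q ≤ D.q ^ (D.m - 3 * D.m / 4) * (D.q - 1) := by
      have h1 : Nat.card N = Nat.card (φ.comp N.subtype).ker * Nat.card (φ.comp N.subtype).range := by
        rw [← Subgroup.card_mul_index (φ.comp N.subtype).ker, Subgroup.index_ker]
      have h2 : Nat.card (φ.comp N.subtype).ker ≤ Nat.card D.S.E := by
        rw [← Nat.card_congr (Subgroup.subgroupOfEquivOfLe D.S.e_le).toEquiv, ← D.S.ker_act_C]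
        refine Nat.card_le_card_of_injective (fun x => (⟨x.1.1, x.2⟩ : φ.ker))
          fun a b hab => Subtype.ext (Subtype.ext (congrArg (fun z : φ.ker => (z : D.S.C)) hab))
      have h3 : Nat.card (φ.comp N.subtype).range * (e * e) * D.q ≤
          D.q ^ (D.m - 3 * D.m / 4) := by
        rcases hbig with ⟨rfl, h91⟩ | h45
        · have h4 : Nat.card (φ.comp N.subtype).range ≤ 91 := by
            refine le_trans (Subgroup.card_le_of_le ?_) h91
            rintro _ ⟨x, rfl⟩
            exact x.2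
          calc Nat.card (φ.comp N.subtype).range * (27 * 27) * D.q ≤ 91 * (27 * 27) * D.q :=
                Nat.mul_le_mul_right _ (Nat.mul_le_mul_right _ h4)
            _ ≤ 7 ^ 6 * D.q := Nat.mul_le_mul_right _ (by norm_num)
            _ ≤ D.q ^ 6 * D.q := Nat.mul_le_mul_right _ (Nat.pow_le_pow_left hq7 _)
            _ = D.q ^ 7 := (pow_succ _ _).symm
            _ ≤ _ := Nat.pow_le_pow_right (by omega) (by omega)
        · obtain ⟨j, hj⟩ : ∃ j, D.m - 3 * D.m / 4 = j + 1 := ⟨D.m - 3 * D.m / 4 - 1, by omega⟩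
          rw [hj, pow_succ]
          refine Nat.mul_le_mul_right _ ?_
          have h4 : Nat.card (φ.comp N.subtype).range ≤ Nat.card φ.range := by
            refine Subgroup.card_le_of_le ?_
            rintro _ ⟨x, rfl⟩
            exact ⟨_, rfl⟩
          have hSsol : Group.IsSolvable D.S.A := by rw [D.hA]; exact hsol
          have hSodd : Odd (Nat.card D.S.A) := by rw [D.hA]; exact hodd
          have h6 := D.S.six_mul_le hSodd (by rw [hU]; nlinarith)
            (exists_pair _ (solvable_range _ hSsol) (odd_range _ hSodd) D.S.cr_act)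
          rw [hU] at h6
          have he4 : e ≤ 4 * (j + 1) - 1 := by
            obtain ⟨l, hl⟩ := heodd
            omega
          refine Nat.le_of_mul_le_mul_left ?_ (show 0 < 6 by norm_num)
          calc 6 * (Nat.card (φ.comp N.subtype).range * (e * e))
              ≤ 6 * Nat.card φ.range * (e * e) := by
                rw [← mul_assoc]
                exact Nat.mul_le_mul_right _ (Nat.mul_le_mul_left _ h4)
            _ ≤ (e * e) ^ 2 * (e * e) := Nat.mul_le_mul_right _ h6
            _ = e ^ 6 := by ring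
            _ ≤ (4 * (j + 1) - 1) ^ 6 := Nat.pow_le_pow_left he4 _
            _ ≤ 6 * 7 ^ (j + 1 - 1) := six_pow_le _ (by omega)
            _ ≤ 6 * D.q ^ j := by
              rw [Nat.add_sub_cancel]
              exact Nat.mul_le_mul_left _ (Nat.pow_le_pow_left hq7 _)
      have ha : Nat.card D.S.A0 ≤ D.q - 1 := Nat.le_of_dvd (by omega) D.a0_dvd
      rw [D.S.card_E, hU] at h2
      rw [h1]
      calc _ ≤ e * e * Nat.card D.S.A0 * Nat.card (φ.comp N.subtype).range * D.q :=
            Nat.mul_le_mul_right _ (Nat.mul_le_mul_right _ h2)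
        _ = Nat.card (φ.comp N.subtype).range * (e * e) * D.q * Nat.card D.S.A0 := by ring
        _ ≤ _ := Nat.mul_le_mul h3 ha
    have hcard : Nat.card ((fun c : D.S.C => (c : Aut V)) '' {c | c ∈ N ∧ c ≠ 1}) ≤ Nat.card N := by
      refine (Set.ncard_image_le (Set.toFinite _)).trans ?_
      exact Set.ncard_le_ncard (fun c hc => hc.1) (Set.toFinite _)
    obtain ⟨w, -, hw⟩ := exists_not_fixed ((fun c : D.S.C => (c : Aut V)) '' {c | c ∈ N ∧ c ≠ 1})
      (D.q ^ (3 * D.m / 4))
      (by rintro _ ⟨c, hc, rfl⟩; exact D.fix_C _ c.2 fun h => hc.2 (Subtype.ext h)) (by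
        refine lt_of_le_of_lt (Nat.mul_le_mul_right _ hcard) ?_
        rw [← D.hV, show D.q ^ D.m = D.q ^ (D.m - 3 * D.m / 4) * D.q ^ (3 * D.m / 4) by
          rw [← pow_add]; congr 1; omega]
        refine Nat.mul_lt_mul_of_pos_right ?_ (Nat.pow_pos (by omega))
        refine Nat.lt_of_mul_lt_mul_right (a := D.q) (lt_of_le_of_lt hN ?_)
        exact Nat.mul_lt_mul_of_pos_left (by omega) (Nat.pow_pos (by omega)))
    refine ⟨w, fun c hc hcK => ?_⟩
    by_contra hne
    exact hw _ ⟨c, ⟨hcK, hne⟩, rfl⟩ hc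

end CfsgLib.StabLength.Odd
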